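import Groth.Agent.IndCofLib.Basic

/-! Applications: Artinian category of cofinite ind-objects, divisible parts. -/

set_option autoImplicit false

open CategoryTheory CategoryTheory.Limits

namespace IndCofLib

universe v

variable {C : Type v} [SmallCategory C] [Abelian C] (hart : ∀ X : C, IsArtinianObject X)

theorem pow_pos' {n : ℕ} (hn : 0 < n) (k : ℕ) : 0 < n ^ k :=
  Nat.pos_of_ne_zero (pow_ne_zero _ hn.ne')

theorem smul_pow_of_le {T A : Ind C} (n : ℕ) {a b : ℕ} (h : a ≤ b) {x : T ⟶ A}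
    (hx : n ^ a • x = 0) : n ^ b • x = 0 := by
  obtain ⟨d, rfl⟩ := Nat.exists_eq_add_of_le h
  rw [pow_add, mul_comm, mul_smul, hx, smul_zero]

include hart in
theorem subobject_chain (p : ℕ) (hp : p.Prime) (htor : ∀ X : C, ∃ n : ℕ, (p ^ n) • 𝟙 X = 0)
    (A : Ind C) (hA : ∀ n : ℕ, Ess (kernel ((p ^ n) • 𝟙 A)))
    (S : ℕ → Subobject A) (hS : Antitone S)
    (hcof : ∀ m n : ℕ, Ess (kernel ((p ^ n) • 𝟙 (S m : Ind C)))) :
    ∃ N : ℕ, ∀ m : ℕ, N ≤ m → S m = S N := by
  let le : ∀ {i j}, i ≤ j → ((S j : Ind C) ⟶ S i) := fun h => Subobject.ofLE _ _ (hS h)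
  have hle : ∀ {i j} (h : i ≤ j), le h ≫ (S i).arrow = (S j).arrow := fun h => Subobject.ofLE_arrow _
  let f : ∀ i, kernel ((p ^ (i + 1)) • 𝟙 (S i : Ind C)) ⟶ kernel ((p ^ 1) • 𝟙 A) := fun i =>
    liftT (p ^ i • (kernel.ι _ ≫ (S i).arrow)) (by
      rw [smul_smul, ← pow_add, Nat.add_comm, ← Preadditive.nsmul_comp, kernel_ι_smul, zero_comp])
  obtain ⟨N1, hN1⟩ := chain hart _ (fun i => hcof i (i + 1)) (hA 1) f fun i =>
    ⟨liftT (p • (kernel.ι _ ≫ le (Nat.le_succ i))) (by
      rw [smul_smul, ← pow_succ, ← Preadditive.nsmul_comp, kernel_ι_smul, zero_comp]), by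
      rw [← cancel_mono (kernel.ι _), Category.assoc, liftT_ι, liftT_ι, Preadditive.comp_nsmul,
        liftT_ι_assoc, Preadditive.nsmul_comp, Category.assoc, hle (Nat.le_succ i), smul_smul, ← pow_succ]⟩
  let g : ∀ i, kernel ((p ^ N1) • 𝟙 (S i : Ind C)) ⟶ kernel ((p ^ N1) • 𝟙 A) := fun i =>
    liftT (kernel.ι _ ≫ (S i).arrow) (by rw [← Preadditive.nsmul_comp, kernel_ι_smul, zero_comp])
  obtain ⟨N2, hN2⟩ := chain hart _ (fun i => hcof i N1) (hA N1) g fun i =>
    ⟨liftT (kernel.ι _ ≫ le (Nat.le_succ i)) (by rw [← Preadditive.nsmul_comp, kernel_ι_smul, zero_comp]),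
      by rw [← cancel_mono (kernel.ι _), Category.assoc, liftT_ι, liftT_ι, liftT_ι_assoc,
        Category.assoc, hle (Nat.le_succ i)]⟩
  set M := max N1 N2
  refine ⟨M, fun m hm => le_antisymm (hS hm) (subobject_le_of_comp _ _ ?_)⟩
  set q := cokernel.π (S m).arrow
  refine eq_zero_of_compact _ fun X x => ?_
  obtain ⟨j, hj⟩ := htor X
  have hxj : p ^ j • x = 0 := by
    rw [← Category.id_comp x, ← Preadditive.nsmul_comp, ← (Ind.yoneda (C := C)).map_id,
      ← Functor.map_nsmul, hj, Functor.map_zero, zero_comp]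
  suffices key : ∀ (k : ℕ) (T : Ind C) (x : T ⟶ (S M : Ind C)), p ^ k • x = 0 →
      x ≫ (S M).arrow ≫ q = 0 from key j _ x hxj
  intro k
  induction k with
  | zero => intro T x hx; rw [pow_zero, one_smul] at hx; rw [hx, zero_comp]
  | succ k ih =>
    intro T x hx
    rcases Nat.lt_or_ge k N1 with hk | hk
    · obtain ⟨T1, π, _, z, hz⟩ := hN2 m M (le_max_right _ _) ((le_max_right _ _).trans hm) T
        (liftT x (smul_pow_of_le p (show k + 1 ≤ N1 from hk) hx))
      have hz' := hz =≫ kernel.ι _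
      simp only [g, Category.assoc, liftT_ι, liftT_ι_assoc] at hz'
      rw [← cancel_epi π, comp_zero, ← Category.assoc x, ← Category.assoc π, hz']
      simp [q]
    · let x1 : T ⟶ (S N1 : Ind C) := x ≫ le (le_max_left _ _)
      have hy : p ^ k • x1 ≫ (S N1).arrow = p ^ k • (x ≫ (S M).arrow) := by
        simp only [x1, Category.assoc, hle]
      obtain ⟨T1, π, _, z, hz⟩ := hN1 (max m k) N1 le_rfl ((le_max_left _ _).trans
        (le_max_of_le_left hm)) T (liftT (p ^ (k - N1) • x1) (by
          rw [smul_smul, ← pow_add, show N1 + 1 + (k - N1) = k + 1 by omega,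
            ← Preadditive.nsmul_comp, hx, zero_comp]))
      have hz' := hz =≫ kernel.ι _
      simp only [f, Category.assoc, liftT_ι, Preadditive.comp_nsmul, liftT_ι_assoc,
        Preadditive.nsmul_comp, smul_smul] at hz'
      rw [show p ^ N1 * p ^ (k - N1) = p ^ k by rw [← pow_add]; congr 1; omega] at hz'
      let w : T1 ⟶ (S M : Ind C) :=
        p ^ ((max m k) - k) • (z ≫ kernel.ι _ ≫ le (show M ≤ (max m k) from hm.trans (le_max_left _ _)))
      have hwq : w ≫ (S M).arrow ≫ q = 0 := by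
        have : (S (max m k)).arrow ≫ q = 0 := by
          rw [← hle (le_max_left m k), Category.assoc, cokernel.condition, comp_zero]
        simp only [w, Preadditive.nsmul_comp, Category.assoc, ← Category.assoc (le _), hle, this,
          comp_zero, smul_zero]
      have hw : p ^ k • w ≫ (S M).arrow = π ≫ (p ^ k • (x ≫ (S M).arrow)) := by
        simp only [w, Preadditive.nsmul_comp, Category.assoc, hle, smul_smul, ← pow_add,
          Preadditive.comp_nsmul]
        rw [show k + ((max m k) - k) = (max m k) from Nat.add_sub_cancel' (le_max_right _ _)]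
        rw [← hz']
        simp only [x1, Category.assoc, hle]
      have hd : p ^ k • (π ≫ x - w) = 0 := by
        rw [← cancel_mono (S M).arrow, zero_comp, Preadditive.nsmul_comp, Preadditive.sub_comp,
          smul_sub, ← Preadditive.nsmul_comp w, Preadditive.nsmul_comp w, hw, Category.assoc,
          Preadditive.comp_nsmul, sub_self]
      have := ih T1 _ hd
      rw [Preadditive.sub_comp, hwq, sub_zero, Category.assoc] at this
      rw [← cancel_epi π, comp_zero, this]

include hart in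
theorem cof_of_epi (htor : Tors C) {A I : Ind C} (e : A ⟶ I) [Epi e] (hA : Cof A)
    (hK : Cof (kernel e)) : Cof I := by
  intro m hm
  let i : cokernel (kernel.ι e) ≅ I :=
    IsColimit.coconePointUniqueUpToIso (colimit.isColimit _)
      (Abelian.epiIsCokernelOfKernel (KernelFork.ofι (kernel.ι e) (kernel.condition e))
        (kernelIsKernel e))
  exact ess_of_iso (kernel.mapIso _ _ i i (by simp))
    (cof_cokernel hart htor hK hA (kernel.ι e) m hm)

theorem cof_of_iso {A B : Ind C} (i : A ≅ B) (hA : Cof A) : Cof B := fun m hm =>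
  ess_of_iso (kernel.mapIso _ _ i i (by simp)) (hA m hm)

include hart in
theorem cof_image_smul (htor : Tors C) {A : Ind C} (hA : Cof A) (n : ℕ) :
    Cof ((imageSubobject (n • 𝟙 A) : Subobject A) : Ind C) := by
  refine cof_of_epi hart htor (factorThruImageSubobject (n • 𝟙 A)) hA ?_
  exact cof_of_iso ((kernelIsoOfEq (imageSubobject_arrow_comp (n • 𝟙 A))).symm ≪≫
    kernelCompMono _ _) (cof_kernel hA hA _)

end IndCofLib
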