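import Groth.Agent.IndCofLib.Gen

/-! Ind-objects of cofinite type over an Artinian torsion abelian category. -/

set_option autoImplicit false

open CategoryTheory CategoryTheory.Limits

namespace IndCofLib

universe v

variable {C : Type v} [SmallCategory C] [Abelian C]

/-- The property of being isomorphic to an object of `C`. -/
abbrev Ess (P : Ind C) : Prop := (Ind.yoneda (C := C)).essImage P

/-- Cofinite type. -/
abbrev Cof (A : Ind C) : Prop := ∀ n : ℕ, 0 < n → Ess (kernel (n • 𝟙 A))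

/-- Every object is torsion. -/
abbrev Tors (C : Type v) [SmallCategory C] [Abelian C] : Prop :=
  ∀ X : C, ∃ n : ℕ, 0 < n ∧ n • 𝟙 X = 0

instance : (Ind.yoneda (C := C)).Additive := Functor.additive_of_preserves_binary_products _

theorem eq_zero_of_compact {A B : Ind C} (f : A ⟶ B)
    (h : ∀ (X : C) (g : Ind.yoneda.obj X ⟶ A), g ≫ f = 0) : f = 0 := by
  rw [← cancel_epi A.colimitPresentationCompYoneda.hom, comp_zero]
  refine colimit.hom_ext fun i => ?_
  rw [comp_zero, ← Category.assoc]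
  exact h _ _

theorem compact_torsion (htor : Tors C) {X : C} {A : Ind C} (g : Ind.yoneda.obj X ⟶ A) :
    ∃ m : ℕ, 0 < m ∧ m • g = 0 := by
  obtain ⟨m, hm, h⟩ := htor X
  refine ⟨m, hm, ?_⟩
  rw [← Category.id_comp g, ← Preadditive.nsmul_comp, ← (Ind.yoneda (C := C)).map_id,
    ← Functor.map_nsmul, h, Functor.map_zero, zero_comp]

theorem ess_of_iso {P Q : Ind C} (e : P ≅ Q) (h : Ess P) : Ess Q :=
  Functor.essImage.ofIso e h

theorem ess_kernel {P Q : Ind C} (f : P ⟶ Q) (hP : Ess P) (hQ : Ess Q) : Ess (kernel f) := by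
  obtain ⟨X, ⟨e⟩⟩ := hP; obtain ⟨Y, ⟨e'⟩⟩ := hQ
  obtain ⟨f0, hf⟩ := Ind.yoneda.map_surjective (e.hom ≫ f ≫ e'.inv)
  exact ⟨kernel f0, ⟨PreservesKernel.iso Ind.yoneda f0 ≪≫
    kernel.mapIso (Ind.yoneda.map f0) f e e' (by simp [hf])⟩⟩

theorem ess_cokernel {P Q : Ind C} (f : P ⟶ Q) (hP : Ess P) (hQ : Ess Q) : Ess (cokernel f) := by
  obtain ⟨X, ⟨e⟩⟩ := hP; obtain ⟨Y, ⟨e'⟩⟩ := hQ
  obtain ⟨f0, hf⟩ := Ind.yoneda.map_surjective (e.hom ≫ f ≫ e'.inv)
  exact ⟨cokernel f0, ⟨PreservesCokernel.iso Ind.yoneda f0 ≪≫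
    cokernel.mapIso (Ind.yoneda.map f0) f e e' (by simp [hf])⟩⟩

theorem ess_of_epi {P I : Ind C} (e : P ⟶ I) [Epi e] (hP : Ess P) (hK : Ess (kernel e)) : Ess I :=
  ess_of_iso (IsColimit.coconePointUniqueUpToIso (colimit.isColimit _)
    (Abelian.epiIsCokernelOfKernel (KernelFork.ofι (kernel.ι e) (kernel.condition e))
      (kernelIsKernel e))) (ess_cokernel (kernel.ι e) hK hP)

theorem ess_of_epi_mono {P I Q : Ind C} (e : P ⟶ I) [Epi e] (m : I ⟶ Q) [Mono m] (hP : Ess P)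
    (hQ : Ess Q) : Ess I :=
  ess_of_epi e hP (ess_of_iso (kernelCompMono e m) (ess_kernel _ hP hQ))

/-- If `ψ` has domain and kernel in `C` then so has every `g ≫ ψ`. -/
theorem ess_kernel_comp {P' P Q : Ind C} (g : P' ⟶ P) (ψ : P ⟶ Q) (hP' : Ess P') (hP : Ess P)
    (hK : Ess (kernel ψ)) : Ess (kernel (g ≫ ψ)) := by
  have e : kernel (g ≫ ψ) ≅ kernel ((g ≫ Abelian.coimage.π ψ) ≫ Abelian.factorThruCoimage ψ) :=
    kernelIsoOfEq (by rw [Category.assoc, Abelian.coimage.fac])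
  exact ess_of_iso (e ≪≫ kernelCompMono _ _).symm
    (ess_kernel _ hP' (ess_cokernel (kernel.ι ψ) hK hP))

/-- Two monos with mutual factorisations. -/
def isoOfMonos {A P Q : Ind C} (i : P ⟶ A) (j : Q ⟶ A) [Mono i] [Mono j] (a : P ⟶ Q) (b : Q ⟶ P)
    (ha : a ≫ j = i) (hb : b ≫ i = j) : P ≅ Q where
  hom := a
  inv := b
  hom_inv_id := by rw [← cancel_mono i, Category.assoc, hb, ha, Category.id_comp]
  inv_hom_id := by rw [← cancel_mono j, Category.assoc, ha, hb, Category.id_comp]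

theorem smul_ι {n : ℕ} {A T : Ind C} (x : T ⟶ kernel (n • 𝟙 A)) :
    n • (x ≫ kernel.ι (n • 𝟙 A)) = 0 := by
  rw [← Preadditive.comp_nsmul, kernel_ι_smul, comp_zero]

/-- The lift to the torsion. -/
noncomputable def liftT {n : ℕ} {A T : Ind C} (x : T ⟶ A) (h : n • x = 0) :
    T ⟶ kernel (n • 𝟙 A) :=
  kernel.lift _ x (by rw [comp_smul_id, h])

@[reassoc (attr := simp)]
theorem liftT_ι {n : ℕ} {A T : Ind C} (x : T ⟶ A) (h : n • x = 0) :
    liftT x h ≫ kernel.ι (n • 𝟙 A) = x :=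
  kernel.lift_ι _ _ _

theorem absorb {G : Type*} [AddCommGroup G] {n m : ℕ} (hn : 0 < n) (hm : 0 < m) {x : G}
    (h : m • x = 0) : ∃ y : G, n ^ m • (x - n • y) = 0 := by
  have hg : 0 < (n ^ (m + 1)).gcd m := Nat.gcd_pos_of_pos_right _ hm
  have hd : (n ^ (m + 1)).gcd m ∣ n ^ m := by
    rw [← Nat.factorization_le_iff_dvd hg.ne' (pow_ne_zero _ hn.ne')]
    intro p
    rw [Nat.factorization_pow]
    simp only [Finsupp.smul_apply, smul_eq_mul]
    rcases Nat.eq_zero_or_pos (n.factorization p) with h0 | h0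
    · have := Nat.factorization_le_iff_dvd hg.ne' (pow_ne_zero _ hn.ne') |>.2
        (Nat.gcd_dvd_left (n ^ (m + 1)) m) p
      rw [Nat.factorization_pow] at this
      simpa [h0] using this
    · have h1 := (Nat.factorization_le_iff_dvd hg.ne' hm.ne').2 (Nat.gcd_dvd_right _ _) p
      have h2 := Nat.factorization_lt p hm.ne'
      exact le_trans (h1.trans h2.le) (Nat.le_mul_of_pos_right m h0)
  obtain ⟨c, hc⟩ := hd
  have hb := Nat.gcd_eq_gcd_ab (n ^ (m + 1)) m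
  refine ⟨((c : ℤ) * (n ^ (m + 1)).gcdA m) • x, ?_⟩
  have hx : ((m : ℤ) * ((n ^ (m + 1)).gcdB m * c)) • x = 0 := by
    rw [mul_comm, mul_smul, natCast_zsmul, h, smul_zero]
  have hz : ((n ^ m : ℕ) : ℤ) = (n : ℤ) ^ m * n * ((c : ℤ) * (n ^ (m + 1)).gcdA m) +
      (m : ℤ) * ((n ^ (m + 1)).gcdB m * c) := by
    conv_lhs => rw [hc]
    push_cast
    rw [hb]
    push_cast
    ring
  rw [smul_sub, sub_eq_zero, ← natCast_zsmul, hz, add_smul, hx, add_zero, ← natCast_zsmul,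
    ← natCast_zsmul, smul_smul, smul_smul]
  push_cast
  ring_nf

theorem coprime_div {G : Type*} [AddCommGroup G] {q m : ℕ} (hq : q.Coprime m) {x : G}
    (h : m • x = 0) : ∃ u : ℤ, q • (u • x) = x := by
  refine ⟨q.gcdA m, ?_⟩
  have hb := Nat.gcd_eq_gcd_ab q m
  rw [hq.gcd_eq_one] at hb
  conv_rhs => rw [← one_zsmul x, show (1 : ℤ) = ((1 : ℕ) : ℤ) from rfl, hb]
  rw [add_smul, mul_comm (m : ℤ), mul_smul _ (m : ℤ), natCast_zsmul, h, smul_zero, add_zero,
    mul_smul, natCast_zsmul]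

variable (hart : ∀ X : C, IsArtinianObject X)

include hart in
/-- A decreasing sequence of images inside an object of `C` stabilises. -/
theorem chain (P : ℕ → Ind C) (hP : ∀ k, Ess (P k)) {R : Ind C} (hR : Ess R) (f : ∀ k, P k ⟶ R)
    (hf : ∀ k, ∃ u : P (k + 1) ⟶ P k, f (k + 1) = u ≫ f k) :
    ∃ N, ∀ j k, N ≤ k → N ≤ j → ∀ (T : Ind C) (x : T ⟶ P k),
      ∃ (T' : Ind C) (π : T' ⟶ T) (_ : Epi π) (z : T' ⟶ P j), π ≫ x ≫ f k = z ≫ f j := by
  obtain ⟨Y, ⟨eR⟩⟩ := hR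
  choose X e using fun k => hP k
  have e : ∀ k, Ind.yoneda.obj (X k) ≅ P k := fun k => (e k).some
  choose ψ hψ using fun k => Ind.yoneda.map_surjective ((e k).hom ≫ f k ≫ eR.inv)
  have hanti : ∀ k, imageSubobject (ψ (k + 1)) ≤ imageSubobject (ψ k) := fun k => by
    obtain ⟨u, hu⟩ := hf k
    obtain ⟨u0, hu0⟩ := Ind.yoneda.map_surjective ((e (k + 1)).hom ≫ u ≫ (e k).inv)
    have h' : ψ (k + 1) = u0 ≫ ψ k :=
      Ind.yoneda.map_injective (by rw [Functor.map_comp, hu0, hψ, hψ, hu]; simp)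
    rw [h']
    exact imageSubobject_comp_le _ _
  have := hart Y
  obtain ⟨N, hN⟩ := antitone_chain_condition_of_isArtinianObject
    ⟨fun k => OrderDual.toDual (imageSubobject (ψ k)), monotone_nat_of_le_succ fun k => hanti k⟩
  refine ⟨N, fun j k hk hj T x => ?_⟩
  have hjk : imageSubobject (ψ k) ≤ imageSubobject (ψ j) :=
    le_of_eq (congrArg OrderDual.ofDual ((hN k hk).symm.trans (hN j hj)))
  obtain ⟨W, π, _, z, hz⟩ := image_refine hjk (𝟙 (X k))
  obtain ⟨T', π', hπ', w, hw⟩ :=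
    surjective_up_to_refinements_of_epi (Ind.yoneda.map π ≫ (e k).hom) x
  refine ⟨T', π', hπ', w ≫ Ind.yoneda.map z ≫ (e j).hom, ?_⟩
  have h2 := congrArg Ind.yoneda.map hz
  simp only [Category.id_comp, Functor.map_comp, hψ] at h2
  have h3 := h2 =≫ eR.hom
  simp only [Category.assoc, Iso.inv_hom_id, Category.comp_id] at h3
  rw [← Category.assoc, hw]
  simp only [Category.assoc, h3]

include hart in
theorem descent {A : Ind C} {n : ℕ} (hA : ∀ k, Ess (kernel ((n ^ k) • 𝟙 A))) :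
    ∃ N, ∀ (k : ℕ) (T : Ind C) (x : T ⟶ A), n ^ k • x = 0 →
      ∃ (T' : Ind C) (π : T' ⟶ T) (_ : Epi π) (a b : T' ⟶ A),
        n ^ (k + 1) • a = 0 ∧ n ^ N • b = 0 ∧ π ≫ x = n • a + b := by
  let f : ∀ k, kernel ((n ^ (k + 1)) • 𝟙 A) ⟶ kernel ((n ^ 1) • 𝟙 A) := fun k =>
    liftT (n ^ k • kernel.ι _) (by
      rw [smul_smul, ← pow_add, Nat.add_comm, kernel_ι_smul])
  obtain ⟨N, hN⟩ := chain hart (fun k => kernel ((n ^ (k + 1)) • 𝟙 A)) (fun k => hA _) (hA 1) f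
    fun k => ⟨liftT (n • kernel.ι _) (by rw [smul_smul, ← pow_succ, kernel_ι_smul]), by
      rw [← cancel_mono (kernel.ι _), Category.assoc, liftT_ι, liftT_ι, Preadditive.comp_nsmul,
        liftT_ι, smul_smul, ← pow_succ]⟩
  refine ⟨N, fun k => ?_⟩
  induction k with
  | zero =>
    intro T x hx
    exact ⟨T, 𝟙 T, inferInstance, 0, x, smul_zero _, by
      rw [pow_zero, one_smul] at hx; rw [hx, smul_zero], by simp⟩
  | succ k ih =>
    intro T x hx
    rcases Nat.lt_or_ge k N with hk | hk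
    · refine ⟨T, 𝟙 T, inferInstance, 0, x, smul_zero _, ?_, by simp⟩
      obtain ⟨d, rfl⟩ := Nat.exists_eq_add_of_le (show k + 1 ≤ N from hk)
      rw [pow_add, mul_comm, mul_smul, hx, smul_zero]
    obtain ⟨T1, π, _, z, hz⟩ := hN (k + 1) k hk (hk.trans k.le_succ) T (liftT x hx)
    have hz' := hz =≫ kernel.ι _
    simp only [f, Category.assoc, liftT_ι, Preadditive.comp_nsmul, liftT_ι_assoc] at hz'
    set w := z ≫ kernel.ι _ with hw
    have hx1 : n ^ k • (π ≫ x - n • w) = 0 := by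
      rw [smul_sub, smul_smul, ← pow_succ, hz', sub_self]
    have hw0 : n ^ (k + 1 + 1) • w = 0 := smul_ι z
    obtain ⟨T2, π2, _, a, b, ha, hb, hab⟩ := ih T1 _ hx1
    refine ⟨T2, π2 ≫ π, inferInstance, a + π2 ≫ w, b, ?_, hb, ?_⟩
    · rw [smul_add, ← Preadditive.comp_nsmul, hw0, comp_zero, add_zero, pow_succ, mul_comm,
        mul_smul, ha, smul_zero]
    · rw [Category.assoc, ← sub_add_cancel (π ≫ x) (n • w), Preadditive.comp_add, hab,
        Preadditive.comp_nsmul, smul_add]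
      abel

/-- The splitting `A = nA + A[n^N]`. -/
abbrev Split (A : Ind C) (n N : ℕ) : Prop :=
  Epi (kernel.ι ((n ^ N) • 𝟙 A) ≫ cokernel.π (n • 𝟙 A))

theorem smul_comp_π {A T : Ind C} (n : ℕ) (a : T ⟶ A) : (n • a) ≫ cokernel.π (n • 𝟙 A) = 0 := by
  conv_lhs => arg 1; rw [← comp_smul_id]
  rw [Category.assoc, cokernel.condition, comp_zero]

include hart in
theorem exists_split (htor : Tors C) {A : Ind C} {n : ℕ} (hn : 0 < n)
    (hA : ∀ k, Ess (kernel ((n ^ k) • 𝟙 A))) : ∃ N, Split A n N := by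
  obtain ⟨N, hN⟩ := descent hart hA
  refine ⟨N, Preadditive.epi_of_cokernel_zero ?_⟩
  set g := kernel.ι ((n ^ N) • 𝟙 A) ≫ cokernel.π (n • 𝟙 A) with hg
  rw [← cancel_epi (cokernel.π (n • 𝟙 A)), comp_zero]
  refine eq_zero_of_compact _ fun X x => ?_
  obtain ⟨m, hm, hx⟩ := compact_torsion htor x
  obtain ⟨y, hy⟩ := absorb hn hm hx
  obtain ⟨T', π, _, a, b, -, hb, hab⟩ := hN m _ (x - n • y) hy
  rw [← cancel_epi π, comp_zero]
  have hab' : π ≫ x = n • (a + π ≫ y) + b := by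
    rw [Preadditive.comp_sub, Preadditive.comp_nsmul, sub_eq_iff_eq_add] at hab
    rw [hab, smul_add]; abel
  rw [← Category.assoc, hab', Preadditive.add_comp, ← Category.assoc (n • _), smul_comp_π,
    zero_comp, zero_add, ← liftT_ι b hb]
  simp only [Category.assoc]
  rw [← Category.assoc (kernel.ι _), ← hg, cokernel.condition, comp_zero]

theorem split_refine {A : Ind C} {n N : ℕ} (h : Split A n N) {T : Ind C} (x : T ⟶ A) :
    ∃ (T' : Ind C) (π : T' ⟶ T) (_ : Epi π) (a b : T' ⟶ A),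
      n ^ N • b = 0 ∧ π ≫ x = n • a + b := by
  have : Epi (kernel.ι ((n ^ N) • 𝟙 A) ≫ cokernel.π (n • 𝟙 A)) := h
  obtain ⟨T1, π, _, z, hz⟩ := surjective_up_to_refinements_of_epi
    (kernel.ι ((n ^ N) • 𝟙 A) ≫ cokernel.π (n • 𝟙 A)) (x ≫ cokernel.π (n • 𝟙 A))
  have h0 : (π ≫ x - z ≫ kernel.ι ((n ^ N) • 𝟙 A)) ≫ cokernel.π (n • 𝟙 A) = 0 := by
    rw [Preadditive.sub_comp, Category.assoc, hz, Category.assoc, sub_self]
  obtain ⟨T2, π2, _, a, ha⟩ := (ShortComplex.exact_cokernel (n • 𝟙 A)).exact_up_to_refinements _ h0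
  refine ⟨T2, π2 ≫ π, inferInstance, a, π2 ≫ z ≫ kernel.ι _, ?_, ?_⟩
  · rw [← Preadditive.comp_nsmul, smul_ι, comp_zero]
  · have ha' : π2 ≫ (π ≫ x - z ≫ kernel.ι ((n ^ N) • 𝟙 A)) = a ≫ (n • 𝟙 A) := ha
    rw [comp_smul_id, Preadditive.comp_sub, sub_eq_iff_eq_add] at ha'
    rw [Category.assoc, ha']

/-- `n^N A = n^(N+j) A`. -/
theorem split_iterate {A : Ind C} {n N : ℕ} (h : Split A n N) (j : ℕ) :
    ∃ (T : Ind C) (π : T ⟶ A) (_ : Epi π) (a : T ⟶ A), n ^ N • π = n ^ (N + j) • a := by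
  induction j with
  | zero => exact ⟨A, 𝟙 A, inferInstance, 𝟙 A, rfl⟩
  | succ j ih =>
    obtain ⟨T, π, _, a, ha⟩ := ih
    obtain ⟨T', π', _, a', b, hb, hab⟩ := split_refine h a
    refine ⟨T', π' ≫ π, inferInstance, a', ?_⟩
    rw [← Preadditive.comp_nsmul, ha, Preadditive.comp_nsmul, hab, smul_add, smul_smul,
      ← pow_succ]
    have hb' : n ^ (N + j) • b = 0 := by rw [Nat.add_comm N j, pow_add, mul_smul, hb, smul_zero]
    rw [hb', add_zero, Nat.add_assoc]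

include hart in
theorem ess_cokernel_smul (htor : Tors C) {A : Ind C} {n : ℕ} (hn : 0 < n)
    (hA : ∀ k, Ess (kernel ((n ^ k) • 𝟙 A))) : Ess (cokernel (n • 𝟙 A)) := by
  obtain ⟨N, hN⟩ := exists_split hart htor hn hA
  have : Epi (kernel.ι ((n ^ N) • 𝟙 A) ≫ cokernel.π (n • 𝟙 A)) := hN
  refine ess_of_epi (kernel.ι ((n ^ N) • 𝟙 A) ≫ cokernel.π (n • 𝟙 A)) (hA N) ?_
  set φ := kernel.ι ((n ^ N) • 𝟙 A) ≫ cokernel.π (n • 𝟙 A) with hφ
  let u : kernel ((n ^ (N + 1)) • 𝟙 A) ⟶ kernel ((n ^ N) • 𝟙 A) :=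
    liftT (n • kernel.ι _) (by rw [smul_smul, ← pow_succ, kernel_ι_smul])
  let w : kernel ((n ^ (N + 1)) • 𝟙 A) ⟶ kernel φ := kernel.lift _ u (by
    rw [hφ, ← Category.assoc, liftT_ι, smul_comp_π])
  have hw : Epi w := by
    rw [epi_iff_surjective_up_to_refinements]
    intro T x
    have h0 : (x ≫ kernel.ι φ ≫ kernel.ι ((n ^ N) • 𝟙 A)) ≫ cokernel.π (n • 𝟙 A) = 0 := by
      simp only [Category.assoc]; rw [← hφ, kernel.condition, comp_zero]
    obtain ⟨T', π, hπ, a, ha⟩ := (ShortComplex.exact_cokernel (n • 𝟙 A)).exact_up_to_refinements _ h0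
    have ha' : π ≫ (x ≫ kernel.ι φ ≫ kernel.ι ((n ^ N) • 𝟙 A)) = n • a :=
      ha.trans (comp_smul_id _ _)
    refine ⟨T', π, hπ, liftT a ?_, ?_⟩
    · rw [pow_succ, mul_smul, ← ha', ← Category.assoc, ← Category.assoc, smul_ι]
    · rw [← cancel_mono (kernel.ι φ), ← cancel_mono (kernel.ι ((n ^ N) • 𝟙 A))]
      simp only [Category.assoc, w, u, kernel.lift_ι_assoc, liftT_ι, Preadditive.comp_nsmul]
      exact ha'
  exact ess_of_epi_mono w (kernel.ι φ) (hA _) (hA _)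

include hart in
theorem image_stabilizes (htor : Tors C) {A : Ind C} {n : ℕ} (hn : 0 < n)
    (hA : ∀ k, Ess (kernel ((n ^ k) • 𝟙 A))) :
    ∃ N, ∀ j, N ≤ j → imageSubobject ((n ^ j) • 𝟙 A) = imageSubobject ((n ^ N) • 𝟙 A) := by
  obtain ⟨N, hN⟩ := exists_split hart htor hn hA
  refine ⟨N, fun j hj => le_antisymm (image_smul_antitone (pow_dvd_pow _ hj)) ?_⟩
  obtain ⟨d, rfl⟩ := Nat.exists_eq_add_of_le hj
  obtain ⟨T, π, _, a, ha⟩ := split_iterate hN d
  refine le_of_refine _ _ π (a ≫ factorThruImageSubobject _) ?_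
  rw [Category.assoc, imageSubobject_arrow_comp, comp_smul_id, comp_smul_id, ha]

theorem cof_of_pow (p : ℕ) (hp : p.Prime) (htor : ∀ X : C, ∃ n : ℕ, (p ^ n) • 𝟙 X = 0) {A : Ind C}
    (hA : ∀ n : ℕ, Ess (kernel ((p ^ n) • 𝟙 A))) : Cof A := by
  intro m hm
  set d := p ^ m.factorization p
  have hd : d • kernel.ι (m • 𝟙 A) = 0 := by
    refine eq_zero_of_compact _ fun X g => ?_
    obtain ⟨j, hj⟩ := htor X
    rw [Preadditive.comp_nsmul]
    set x := g ≫ kernel.ι (m • 𝟙 A)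
    have h1 : p ^ j • x = 0 := by
      rw [← Category.id_comp x, ← Preadditive.nsmul_comp, ← (Ind.yoneda (C := C)).map_id,
        ← Functor.map_nsmul, hj, Functor.map_zero, zero_comp]
    have h2 : m • x = 0 := smul_ι g
    have ho := Nat.dvd_gcd (addOrderOf_dvd_iff_nsmul_eq_zero.2 h1) (addOrderOf_dvd_iff_nsmul_eq_zero.2 h2)
    obtain ⟨i, -, hi⟩ := (Nat.dvd_prime_pow hp).1 (Nat.gcd_dvd_left (p ^ j) m)
    have him : i ≤ m.factorization p :=
      (Nat.Prime.pow_dvd_iff_le_factorization hp hm.ne').1 (hi ▸ Nat.gcd_dvd_right _ _)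
    rw [hi] at ho
    exact addOrderOf_dvd_iff_nsmul_eq_zero.1 (ho.trans (pow_dvd_pow _ him))
  refine ess_of_iso (isoOfMonos (kernel.ι (d • 𝟙 A)) (kernel.ι (m • 𝟙 A))
    (liftT _ ?_) (liftT _ hd) (liftT_ι _ _) (liftT_ι _ _)) (hA _)
  obtain ⟨c, hc⟩ := Nat.ordProj_dvd m p
  rw [hc, mul_comm, mul_smul, kernel_ι_smul, smul_zero]

theorem tors_of_pow (p : ℕ) (hp : p.Prime) (htor : ∀ X : C, ∃ n : ℕ, (p ^ n) • 𝟙 X = 0) :
    Tors C := fun X =>
  let ⟨n, hn⟩ := htor X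
  ⟨p ^ n, Nat.pos_of_ne_zero (pow_ne_zero _ hp.ne_zero), hn⟩

theorem cof_kernel {A B : Ind C} (hA : Cof A) (hB : Cof B) (f : A ⟶ B) : Cof (kernel f) := by
  intro n hn
  let g : kernel (n • 𝟙 A) ⟶ kernel (n • 𝟙 B) :=
    liftT (kernel.ι _ ≫ f) (by rw [← Preadditive.nsmul_comp, kernel_ι_smul, zero_comp])
  have hg : g ≫ kernel.ι _ = kernel.ι (n • 𝟙 A) ≫ f := liftT_ι _ _
  let a : kernel g ⟶ kernel (n • 𝟙 (kernel f)) :=
    liftT (kernel.lift f (kernel.ι g ≫ kernel.ι (n • 𝟙 A)) (by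
      rw [Category.assoc, ← hg, kernel.condition_assoc, zero_comp])) (by
      rw [← cancel_mono (kernel.ι f), Preadditive.nsmul_comp, kernel.lift_ι, zero_comp, smul_ι])
  let b : kernel (n • 𝟙 (kernel f)) ⟶ kernel g :=
    kernel.lift g (liftT (kernel.ι _ ≫ kernel.ι f) (by
      rw [← Preadditive.nsmul_comp, kernel_ι_smul, zero_comp])) (by
      rw [← cancel_mono (kernel.ι (n • 𝟙 B)), Category.assoc, hg, liftT_ι_assoc, Category.assoc,
        kernel.condition, comp_zero, zero_comp])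
  refine ess_of_iso (isoOfMonos (kernel.ι g ≫ kernel.ι (n • 𝟙 A))
    (kernel.ι (n • 𝟙 (kernel f)) ≫ kernel.ι f) a b ?_ ?_) (ess_kernel g (hA n hn) (hB n hn))
  · simp [a]
  · simp [b]

theorem ess_kernel_torsion {P B : Ind C} (hP : Ess P) (hB : Cof B) (g : P ⟶ B) {m : ℕ} (hm : 0 < m)
    (h : m • g = 0) : Ess (kernel g) :=
  ess_of_iso ((kernelCompMono (liftT g h) (kernel.ι _)).symm ≪≫ kernelIsoOfEq (liftT_ι g h))
    (ess_kernel _ hP (hB m hm))

include hart in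
theorem cof_cokernel (htor : Tors C) {A B : Ind C} (hA : Cof A) (hB : Cof B) (f : A ⟶ B) :
    Cof (cokernel f) := by
  have hψ : ∀ M, 0 < M → Ess (kernel (kernel.ι (M • 𝟙 B) ≫ cokernel.π f)) := by
    intro M hM
    obtain ⟨N, hN⟩ := exists_split hart htor hM (A := kernel f)
      fun k => cof_kernel hA hB f _ (Nat.pos_of_ne_zero (pow_ne_zero _ hM.ne'))
    have hM' : 0 < M ^ (N + 1) := Nat.pos_of_ne_zero (pow_ne_zero _ hM.ne')
    set ψ := kernel.ι (M • 𝟙 B) ≫ cokernel.π f with hψdef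
    let g : kernel ((M ^ (N + 1)) • 𝟙 A) ⟶ B := M • (kernel.ι _ ≫ f)
    have hg : Ess (kernel g) := ess_kernel_torsion (hA _ hM') hB g hM' (by
      rw [smul_comm, ← Preadditive.nsmul_comp, kernel_ι_smul, zero_comp, smul_zero])
    let w : kernel g ⟶ kernel ψ :=
      kernel.lift ψ (liftT (kernel.ι g ≫ kernel.ι _ ≫ f) (by
        rw [← Preadditive.comp_nsmul]; exact kernel.condition g)) (by
        rw [hψdef, liftT_ι_assoc]; simp)
    have : Epi w := by
      rw [epi_iff_surjective_up_to_refinements]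
      intro T x
      have h0 : (x ≫ kernel.ι ψ ≫ kernel.ι (M • 𝟙 B)) ≫ cokernel.π f = 0 := by
        simp only [Category.assoc]; rw [← hψdef, kernel.condition, comp_zero]
      obtain ⟨T1, π1, _, a, ha⟩ := (ShortComplex.exact_cokernel f).exact_up_to_refinements _ h0
      have ha' : π1 ≫ (x ≫ kernel.ι ψ ≫ kernel.ι (M • 𝟙 B)) = a ≫ f := ha
      have haK : (M • a) ≫ f = 0 := by
        rw [Preadditive.nsmul_comp, ← ha', ← Category.assoc, ← Category.assoc, smul_ι]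
      obtain ⟨T2, π2, _, c, d, hd, hcd⟩ := split_refine hN (kernel.lift f (M • a) haK)
      have hcd' := hcd =≫ kernel.ι f
      rw [Category.assoc, kernel.lift_ι, Preadditive.comp_nsmul, Preadditive.add_comp,
        Preadditive.nsmul_comp] at hcd'
      set a' := π2 ≫ a - c ≫ kernel.ι f with ha'def
      have h2 : M • a' = d ≫ kernel.ι f := by
        rw [ha'def, smul_sub, hcd', add_sub_cancel_left]
      have h3 : a' ≫ f = π2 ≫ π1 ≫ (x ≫ kernel.ι ψ ≫ kernel.ι (M • 𝟙 B)) := by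
        rw [ha', ha'def, Preadditive.sub_comp, Category.assoc, Category.assoc, kernel.condition,
          comp_zero, sub_zero]
      have h4 : M ^ (N + 1) • a' = 0 := by
        rw [pow_succ, mul_smul, h2, ← Preadditive.nsmul_comp, hd, zero_comp]
      refine ⟨T2, π2 ≫ π1, inferInstance, kernel.lift g (liftT a' h4) ?_, ?_⟩
      · simp only [g, Preadditive.comp_nsmul, liftT_ι_assoc]
        rw [← Preadditive.nsmul_comp, h2, Category.assoc, kernel.condition, comp_zero]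
      · rw [← cancel_mono (kernel.ι ψ), ← cancel_mono (kernel.ι (M • 𝟙 B))]
        simp only [Category.assoc, w, kernel.lift_ι_assoc, liftT_ι, liftT_ι_assoc]
        rw [h3]
    exact ess_of_epi_mono w (kernel.ι ψ) hg (hB M hM)
  intro n hn
  obtain ⟨N, hN⟩ := exists_split hart htor hn
    (fun k => hA _ (Nat.pos_of_ne_zero (pow_ne_zero k hn.ne')))
  have hM : 0 < n ^ (N + 1) := Nat.pos_of_ne_zero (pow_ne_zero _ hn.ne')
  set M := n ^ (N + 1) with hMdef
  let g : kernel (M • 𝟙 B) ⟶ kernel (M • 𝟙 B) := n • 𝟙 _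
  set ψ := kernel.ι (M • 𝟙 B) ≫ cokernel.π f
  have hP : Ess (kernel (g ≫ ψ)) := ess_kernel_comp g ψ (hB M hM) (hB M hM) (hψ M hM)
  let e : kernel (g ≫ ψ) ⟶ kernel (n • 𝟙 (cokernel f)) :=
    liftT (kernel.ι (g ≫ ψ) ≫ ψ) (by
      have := kernel.condition (g ≫ ψ)
      simp only [g, Preadditive.nsmul_comp, Category.id_comp, Preadditive.comp_nsmul] at this
      exact this)
  have : Epi e := by
    rw [epi_iff_surjective_up_to_refinements]
    intro T y
    obtain ⟨T1, π1, _, b, hb⟩ :=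
      surjective_up_to_refinements_of_epi (cokernel.π f) (y ≫ kernel.ι _)
    have h0 : (n • b) ≫ cokernel.π f = 0 := by
      rw [Preadditive.nsmul_comp, ← hb, ← Preadditive.comp_nsmul, smul_ι, comp_zero]
    obtain ⟨T2, π2, _, a, ha⟩ := (ShortComplex.exact_cokernel f).exact_up_to_refinements _ h0
    have ha' : π2 ≫ (n • b) = a ≫ f := ha
    obtain ⟨T3, π3, _, a2, a1, ha1, haa⟩ := split_refine hN a
    set b' := π3 ≫ π2 ≫ b - a2 ≫ f with hb'
    have h1 : n • b' = a1 ≫ f := by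
      rw [hb', smul_sub, ← Preadditive.comp_nsmul, ← Preadditive.comp_nsmul, ha', ← Category.assoc,
        haa, Preadditive.add_comp, Preadditive.nsmul_comp, add_sub_cancel_left]
    have h2 : M • b' = 0 := by
      rw [hMdef, pow_succ, mul_smul, h1, ← Preadditive.nsmul_comp, ha1, zero_comp]
    refine ⟨T3, π3 ≫ π2 ≫ π1, inferInstance, kernel.lift _ (liftT b' h2) ?_, ?_⟩
    · simp only [g, ψ, Preadditive.nsmul_comp, Category.id_comp, Preadditive.comp_nsmul,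
        liftT_ι_assoc]
      rw [← Preadditive.nsmul_comp, h1, Category.assoc, cokernel.condition, comp_zero]
    · rw [← cancel_mono (kernel.ι (n • 𝟙 (cokernel f)))]
      simp only [Category.assoc, e, liftT_ι, kernel.lift_ι_assoc, ψ, liftT_ι_assoc]
      rw [hb', Preadditive.sub_comp, Category.assoc a2, cokernel.condition, comp_zero, sub_zero,
        hb]
      simp only [Category.assoc]
  refine ess_of_epi e hP (ess_of_iso ?_
    (ess_kernel_comp (kernel.ι (g ≫ ψ)) ψ hP (hB M hM) (hψ M hM)))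
  exact (kernelIsoOfEq (liftT_ι _ _)).symm ≪≫ kernelCompMono e (kernel.ι _)

end IndCofLib
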