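import Groth.Agent.IndCofLib.Apps

/-! Divisible parts of cofinite ind-objects. -/

set_option autoImplicit false

open CategoryTheory CategoryTheory.Limits

namespace IndCofLib

universe v

variable {C : Type v} [SmallCategory C] [Abelian C] (hart : ∀ X : C, IsArtinianObject X)

include hart in
theorem divisiblePart_pow (p : ℕ) (hp : p.Prime) (htor : ∀ X : C, ∃ n : ℕ, (p ^ n) • 𝟙 X = 0)
    (A : Ind C) (hA : ∀ n : ℕ, Ess (kernel ((p ^ n) • 𝟙 A))) (N : ℕ)
    (hN : ∀ n : ℕ, N ≤ n → imageSubobject ((p ^ n) • 𝟙 A) = imageSubobject ((p ^ N) • 𝟙 A)) :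
    (∀ n : ℕ, Ess (kernel ((p ^ n) • 𝟙 ((imageSubobject ((p ^ N) • 𝟙 A) : Subobject A) : Ind C)))) ∧
      Epi (p • 𝟙 ((imageSubobject ((p ^ N) • 𝟙 A) : Subobject A) : Ind C)) ∧
      (∀ D : Subobject A, Epi (p • 𝟙 (D : Ind C)) → D ≤ imageSubobject ((p ^ N) • 𝟙 A)) ∧
      (∀ (Q : Ind C) (q : A ⟶ Q), Epi q → Ess Q →
        (imageSubobject ((p ^ N) • 𝟙 A)).arrow ≫ q = 0) := by
  refine ⟨fun n => cof_image_smul hart (tors_of_pow p hp htor) (cof_of_pow p hp htor hA) _ _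
      (pow_pos' hp.pos n),
    epi_of_stable (p ^ N) p (by rw [← pow_succ']; exact (hN (N + 1) N.le_succ).ge),
    fun D hD => ?_, ?_⟩
  · have : Epi ((p ^ N) • 𝟙 (D : Ind C)) := by
      clear hN
      induction N with
      | zero => rw [pow_zero, one_smul]; infer_instance
      | succ N ih =>
        rw [show (p ^ (N + 1)) • 𝟙 (D : Ind C) = ((p ^ N) • 𝟙 _) ≫ (p • 𝟙 _) by
          rw [comp_smul_id, smul_smul, ← pow_succ']]
        exact epi_comp _ _
    exact le_image_smul D _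
  · rintro Q q _ ⟨X, ⟨e⟩⟩
    obtain ⟨j, hj⟩ := htor X
    have hQ : (p ^ j) • 𝟙 Q = 0 := by
      rw [← e.inv_hom_id, ← Category.id_comp e.hom, ← (Ind.yoneda (C := C)).map_id,
        ← Preadditive.comp_nsmul, ← Preadditive.nsmul_comp, ← Functor.map_nsmul, hj,
        Functor.map_zero, zero_comp, comp_zero]
    obtain ⟨T, π, _, z, hz⟩ := image_refine (hN (N + j) (Nat.le_add_right _ _)).ge (𝟙 A)
    rw [← cancel_epi (factorThruImageSubobject _), imageSubobject_arrow_comp_assoc, comp_zero,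
      ← cancel_epi π, comp_zero]
    rw [Category.id_comp] at hz
    rw [← Category.assoc, hz, comp_smul_id, pow_add, mul_comm, mul_smul, Preadditive.nsmul_comp,
      ← comp_smul_id, hQ, comp_zero]

include hart in
theorem divisiblyML (htor : Tors C) (A : Ind C) (hA : Cof A) :
    ((∀ n : ℕ, 0 < n → ∃ m : ℕ, 0 < m ∧ n ∣ m ∧ ∀ m' : ℕ, 0 < m' → m ∣ m' →
        imageSubobject ((m' / n) • 𝟙 A) = imageSubobject ((m / n) • 𝟙 A)) ↔
      ∃ B' : Subobject A, (∀ k : ℕ, 0 < k → Epi (k • 𝟙 (B' : Ind C))) ∧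
        Ess (cokernel B'.arrow)) ∧
    ((∃ B' : Subobject A, (∀ k : ℕ, 0 < k → Epi (k • 𝟙 (B' : Ind C))) ∧
        Ess (cokernel B'.arrow)) ↔
      {p : ℕ | p.Prime ∧ ¬ Epi (p • 𝟙 A)}.Finite) := by
  have hess : ∀ M : ℕ, 0 < M → Ess (cokernel (imageSubobject (M • 𝟙 A)).arrow) := fun M hM => by
    refine ess_of_iso ?_ (ess_cokernel_smul hart htor hM fun k => hA _ (pow_pos' hM k))
    exact (cokernelIsoOfEq (imageSubobject_arrow_comp (M • 𝟙 A))).symm ≪≫ cokernelEpiComp _ _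
  have hkey : ∀ B' : Subobject A, (∀ k : ℕ, 0 < k → Epi (k • 𝟙 (B' : Ind C))) →
      ((∃ M : ℕ, 0 < M ∧ M • 𝟙 (cokernel B'.arrow) = 0) ↔ Ess (cokernel B'.arrow)) := by
    intro B' hdiv
    constructor
    · rintro ⟨M, hM0, hM⟩
      have := hdiv M hM0
      rw [eq_image_of_divisible B' hM]
      exact hess M hM0
    · rintro ⟨X, ⟨e⟩⟩
      obtain ⟨M, hM0, hM⟩ := htor X
      refine ⟨M, hM0, ?_⟩
      rw [← e.inv_hom_id, ← Category.id_comp e.hom, ← (Ind.yoneda (C := C)).map_id,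
        ← Preadditive.comp_nsmul, ← Preadditive.nsmul_comp, ← Functor.map_nsmul, hM,
        Functor.map_zero, zero_comp, comp_zero]
  refine ⟨(mittagLeffler_iff A).1.trans ⟨?_, ?_⟩, ⟨?_, ?_⟩⟩
  · rintro ⟨B', hdiv, hM⟩; exact ⟨B', hdiv, (hkey B' hdiv).1 hM⟩
  · rintro ⟨B', hdiv, hM⟩; exact ⟨B', hdiv, (hkey B' hdiv).2 hM⟩
  · rintro ⟨B', hdiv, hB⟩
    obtain ⟨M, hM0, hM⟩ := (hkey B' hdiv).2 hB
    refine (Nat.primeFactors M).finite_toSet.subset fun p ⟨hp, hnot⟩ => ?_
    refine Finset.mem_coe.2 (Nat.mem_primeFactors.2 ⟨hp, ?_, hM0.ne'⟩)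
    by_contra hdvd
    apply hnot
    refine Preadditive.epi_of_cokernel_zero ?_
    set π := cokernel.π (p • 𝟙 A)
    have hB0 : B'.arrow ≫ π = 0 := by
      have := hdiv p hp.pos
      rw [← cancel_epi (p • 𝟙 (B' : Ind C)), comp_zero, Preadditive.nsmul_comp, Category.id_comp,
        ← Preadditive.nsmul_comp, smul_comp_π]
    have hd := cokernel.π_desc B'.arrow π hB0
    set d := cokernel.desc B'.arrow π hB0
    have h1 : M • π = 0 := by
      rw [← hd, ← Preadditive.comp_nsmul, ← Category.id_comp d, ← Preadditive.nsmul_comp, hM,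
        zero_comp, comp_zero]
    have h2 : p • π = 0 := by
      rw [← Category.id_comp π, ← Preadditive.nsmul_comp]; exact cokernel.condition _
    have ho := Nat.dvd_gcd (addOrderOf_dvd_iff_nsmul_eq_zero.2 h2)
      (addOrderOf_dvd_iff_nsmul_eq_zero.2 h1)
    rw [(hp.coprime_iff_not_dvd.2 hdvd).gcd_eq_one, Nat.dvd_one, AddMonoid.addOrderOf_eq_one_iff] at ho
    exact ho
  · intro hfin
    set P := ∏ p ∈ hfin.toFinset, p
    have hP : 0 < P := Finset.prod_pos fun p hp => ((hfin.mem_toFinset.1 hp).1).pos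
    obtain ⟨N, hN⟩ := image_stabilizes hart htor hP (fun k => hA _ (pow_pos' hP k))
    refine ⟨imageSubobject ((P ^ N) • 𝟙 A), epi_smul_of_primes fun q hq => ?_,
      hess _ (pow_pos' hP N)⟩
    by_cases hqA : Epi (q • 𝟙 A)
    · refine @epi_of_epi_fac _ _ _ _ _ (factorThruImageSubobject _) _
        ((q • 𝟙 A) ≫ factorThruImageSubobject ((P ^ N) • 𝟙 A)) (epi_comp _ _) ?_
      rw [comp_smul_id, Preadditive.nsmul_comp, Category.id_comp]
    · have hd : q ∣ P := Finset.dvd_prod_of_mem _ (hfin.mem_toFinset.2 ⟨hq, hqA⟩)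
      refine epi_of_stable (P ^ N) q ((hN (N + 1) N.le_succ).ge.trans (image_smul_antitone ?_))
      rw [pow_succ']
      exact Nat.mul_dvd_mul_right hd _

theorem hasCoproducts_aux : HasCoproductsOfShape (ℕ × ℕ) (Ind C) := inferInstance

include hart in
theorem exists_divisiblePart (htor : Tors C) (A : Ind C) (hA : Cof A) :
    ∃ D : Subobject A, (∀ k : ℕ, 0 < k → Epi (k • 𝟙 (D : Ind C))) ∧
      (∀ D' : Subobject A, (∀ k : ℕ, 0 < k → Epi (k • 𝟙 (D' : Ind C))) → D' ≤ D) ∧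
      Cof (D : Ind C) ∧ Cof (cokernel D.arrow) := by
  have := hasCoproducts_aux (C := C)
  choose N hN using fun i : ℕ => descent hart (A := A) (n := i + 1)
    (fun k => hA _ (pow_pos' i.succ_pos k))
  let P : ℕ × ℕ → Ind C := fun ik => kernel (((ik.1 + 1) ^ ik.2) • 𝟙 A)
  let F : ∐ P ⟶ A := Sigma.desc fun ik => ((ik.1 + 1) ^ N ik.1) • kernel.ι _
  set D := imageSubobject F
  let c := factorThruImageSubobject F
  have hmem : ∀ i {T : Ind C} (a : T ⟶ A) (k : ℕ), (i + 1) ^ k • a = 0 →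
      ∃ d : T ⟶ (D : Ind C), d ≫ D.arrow = (i + 1) ^ N i • a := by
    intro i T a k h
    refine ⟨liftT a h ≫ Sigma.ι P (i, k) ≫ c, ?_⟩
    simp only [Category.assoc, c, D, imageSubobject_arrow_comp, F, P, colimit.ι_desc,
      Cofan.mk_pt, Cofan.mk_ι_app, Preadditive.comp_nsmul, liftT_ι]
  have hdiv : ∀ q : ℕ, q.Prime → Epi (q • 𝟙 (D : Ind C)) := by
    intro q hq
    refine Preadditive.epi_of_cokernel_zero ?_
    rw [← cancel_epi c, comp_zero]
    refine Sigma.hom_ext _ _ fun ⟨i, k⟩ => ?_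
    rw [comp_zero]
    set x := kernel.ι (((i + 1) ^ k) • 𝟙 A) with hxdef
    have hι : (Sigma.ι P (i, k) ≫ c) ≫ D.arrow = (i + 1) ^ N i • x := by
      simp only [Category.assoc, c, D, imageSubobject_arrow_comp, F, P, colimit.ι_desc,
        Cofan.mk_pt, Cofan.mk_ι_app, x]
    have hx : (i + 1) ^ k • x = 0 := kernel_ι_smul _ _
    rcases Nat.coprime_or_dvd_of_prime hq (i + 1) with hco | hdvd
    · obtain ⟨u, hu⟩ := coprime_div (hco.pow_right k) hx
      obtain ⟨d, hd⟩ := hmem i (u • x) k (by rw [smul_comm, hx, smul_zero])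
      have e : Sigma.ι P (i, k) ≫ c = q • d := by
        rw [← cancel_mono D.arrow, hι, Preadditive.nsmul_comp, hd, smul_comm, hu]
      rw [← Category.assoc, e, smul_comp_π]
    · obtain ⟨c', hc'⟩ := hdvd
      obtain ⟨T', π, _, a, b, ha, hb, hab⟩ := hN i k _ x hx
      obtain ⟨d, hd⟩ := hmem i (c' • a) (k + 1) (by rw [smul_comm, ha, smul_zero])
      have e : π ≫ Sigma.ι P (i, k) ≫ c = q • d := by
        rw [← cancel_mono D.arrow, Category.assoc, hι, Preadditive.nsmul_comp, hd,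
          Preadditive.comp_nsmul, hab, smul_add, hb, add_zero, smul_comm q, smul_smul q, ← hc']
      rw [← cancel_epi π, comp_zero, ← Category.assoc, ← Category.assoc, Category.assoc π, e,
        smul_comp_π]
  have hdiv' := epi_smul_of_primes hdiv
  have hle : ∀ D' : Subobject A, (∀ k : ℕ, 0 < k → Epi (k • 𝟙 (D' : Ind C))) → D' ≤ D := by
    intro D' hD'
    refine subobject_le_of_comp _ _ (eq_zero_of_compact _ fun X x => ?_)
    obtain ⟨m, hm, hx⟩ := compact_torsion htor x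
    obtain ⟨i, rfl⟩ : ∃ i, m = i + 1 := ⟨m - 1, by omega⟩
    have := hD' ((i + 1) ^ N i) (pow_pos' hm _)
    obtain ⟨T, π, _, y, hy⟩ :=
      surjective_up_to_refinements_of_epi (((i + 1) ^ N i) • 𝟙 (D' : Ind C)) x
    rw [comp_smul_id] at hy
    obtain ⟨d, hd⟩ := hmem i (y ≫ D'.arrow) (N i + 1) (by
      rw [pow_succ', mul_smul, ← Preadditive.nsmul_comp, ← hy, ← Preadditive.nsmul_comp,
        ← Preadditive.comp_nsmul, hx, comp_zero, zero_comp])
    rw [← Preadditive.nsmul_comp, ← hy] at hd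
    rw [← cancel_epi π, comp_zero, ← Category.assoc x, ← Category.assoc π, ← Category.assoc π,
      ← hd, Category.assoc, cokernel.condition, comp_zero]
  have hcof : Cof (D : Ind C) := by
    intro n hn
    obtain ⟨i, rfl⟩ : ∃ i, n = i + 1 := ⟨n - 1, by omega⟩
    let src := kernel (((i + 1) ^ (N i + 1)) • 𝟙 A)
    obtain ⟨d, hd⟩ := hmem i (kernel.ι (((i + 1) ^ (N i + 1)) • 𝟙 A)) (N i + 1) (kernel_ι_smul _ _)
    have hd0 : (i + 1) • d = 0 := by
      rw [← cancel_mono D.arrow, Preadditive.nsmul_comp, hd, zero_comp, smul_smul, ← pow_succ',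
        kernel_ι_smul]
    let e : src ⟶ kernel ((i + 1) • 𝟙 (D : Ind C)) := liftT d hd0
    have : Epi e := by
      rw [epi_iff_surjective_up_to_refinements]
      intro T x
      have := hdiv' ((i + 1) ^ N i) (pow_pos' hn _)
      obtain ⟨T', π, hπ, y, hy⟩ := surjective_up_to_refinements_of_epi
        (((i + 1) ^ N i) • 𝟙 (D : Ind C)) (x ≫ kernel.ι _)
      rw [comp_smul_id] at hy
      have hy0 : (i + 1) ^ (N i + 1) • (y ≫ D.arrow) = 0 := by
        rw [pow_succ', mul_smul, ← Preadditive.nsmul_comp, ← hy, ← Preadditive.nsmul_comp,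
          ← Preadditive.comp_nsmul, smul_ι, comp_zero, zero_comp]
      refine ⟨T', π, hπ, liftT _ hy0, ?_⟩
      rw [← cancel_mono (kernel.ι ((i + 1) • 𝟙 (D : Ind C))), ← cancel_mono D.arrow]
      simp only [Category.assoc, e, liftT_ι_assoc, hd, Preadditive.comp_nsmul, liftT_ι]
      rw [← Preadditive.nsmul_comp, ← hy]
      simp only [Category.assoc]
    let m' : kernel ((i + 1) • 𝟙 (D : Ind C)) ⟶ kernel ((i + 1) • 𝟙 A) :=
      liftT (kernel.ι _ ≫ D.arrow) (by
        rw [← Preadditive.nsmul_comp, kernel_ι_smul, zero_comp])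
    have hm : Mono m' := mono_of_mono_fac (liftT_ι _ _)
    exact ess_of_epi_mono e m'
      (hA _ (pow_pos' hn _)) (hA _ hn)
  exact ⟨D, hdiv', hle, hcof, cof_cokernel hart htor hcof hA _⟩

end IndCofLib
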