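import Mathlib

/-! General lemmas in abelian categories for the cofinite ind-object cluster. -/

set_option autoImplicit false

open CategoryTheory CategoryTheory.Limits

namespace IndCofLib

universe v u

variable {V : Type u} [Category.{v} V] [Abelian V]

theorem comp_smul_id {T B : V} (n : ℕ) (x : T ⟶ B) : x ≫ (n • 𝟙 B) = n • x := by
  rw [Preadditive.comp_nsmul, Category.comp_id]

theorem kernel_ι_smul (n : ℕ) (B : V) : n • kernel.ι (n • 𝟙 B) = 0 := by
  exact (comp_smul_id n _).symm.trans (kernel.condition _)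

theorem comp_cokernel_image {X B : V} (f : X ⟶ B) : f ≫ cokernel.π (imageSubobject f).arrow = 0 := by
  conv_lhs => arg 1; rw [← imageSubobject_arrow_comp f]
  rw [Category.assoc, cokernel.condition, comp_zero]

theorem le_of_refine {B : V} {X T : V} (f : X ⟶ B) (S : Subobject B) (π : T ⟶ X) [Epi π]
    (z : T ⟶ (S : V)) (h : π ≫ f = z ≫ S.arrow) : imageSubobject f ≤ S := by
  have h0 : f ≫ cokernel.π S.arrow = 0 := by
    rw [← cancel_epi π, ← Category.assoc, h, Category.assoc, cokernel.condition, comp_zero, comp_zero]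
  exact imageSubobject_le f (Abelian.monoLift S.arrow f h0) (Abelian.monoLift_comp _ _ _)

theorem subobject_le_of_comp {B : V} (S S' : Subobject B) (h : S.arrow ≫ cokernel.π S'.arrow = 0) :
    S ≤ S' :=
  Subobject.le_of_comm (Abelian.monoLift S'.arrow S.arrow h) (Abelian.monoLift_comp _ _ _)

theorem image_refine {B X Y : V} {f : X ⟶ B} {g : Y ⟶ B} (h : imageSubobject f ≤ imageSubobject g)
    {T : V} (x : T ⟶ X) :
    ∃ (T' : V) (π : T' ⟶ T) (_ : Epi π) (z : T' ⟶ Y), π ≫ x ≫ f = z ≫ g := by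
  obtain ⟨T', π, hπ, z, hz⟩ := surjective_up_to_refinements_of_epi (factorThruImageSubobject g)
    (x ≫ factorThruImageSubobject f ≫ Subobject.ofLE _ _ h)
  refine ⟨T', π, hπ, z, ?_⟩
  have := hz =≫ (imageSubobject g).arrow
  simpa using this

theorem epi_smul_of_primes {D : V} (h : ∀ q : ℕ, q.Prime → Epi (q • 𝟙 D)) :
    ∀ k : ℕ, 0 < k → Epi (k • 𝟙 D) := by
  intro k
  induction k using Nat.recOnMul with
  | zero => simp
  | one => intro _; rw [one_smul]; infer_instance
  | prime p hp => exact fun _ => h p hp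
  | mul a b ha hb =>
    intro hab
    have := ha (Nat.pos_of_ne_zero fun e => by simp [e] at hab)
    have := hb (Nat.pos_of_ne_zero fun e => by simp [e] at hab)
    have e : (a * b) • 𝟙 D = (a • 𝟙 D) ≫ (b • 𝟙 D) := by rw [comp_smul_id, smul_smul, mul_comm]
    rw [e]
    exact epi_comp _ _

/-- A divisible subobject lies in every image of a multiplication. -/
theorem le_image_smul {B : V} (D : Subobject B) (n : ℕ) [Epi (n • 𝟙 (D : V))] :
    D ≤ imageSubobject (n • 𝟙 B) := by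
  refine subobject_le_of_comp _ _ ?_
  rw [← cancel_epi (n • 𝟙 (D : V)), comp_zero, Preadditive.nsmul_comp, Category.id_comp,
    ← Preadditive.nsmul_comp]
  conv_lhs => arg 1; rw [← comp_smul_id]
  rw [Category.assoc, comp_cokernel_image, comp_zero]

theorem image_smul_antitone {B : V} {m n : ℕ} (h : m ∣ n) :
    imageSubobject (n • 𝟙 B) ≤ imageSubobject (m • 𝟙 B) := by
  obtain ⟨c, rfl⟩ := h
  rw [show (m * c) • 𝟙 B = (c • 𝟙 B) ≫ (m • 𝟙 B) by rw [comp_smul_id, smul_smul]]
  exact imageSubobject_comp_le _ _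

theorem smul_cokernel_eq_zero {B : V} (M : ℕ) :
    M • 𝟙 (cokernel (imageSubobject (M • 𝟙 B)).arrow) = 0 := by
  rw [← cancel_epi (cokernel.π _), comp_zero, Preadditive.comp_nsmul, Category.comp_id,
    ← Category.id_comp (cokernel.π _), ← Preadditive.nsmul_comp]
  exact comp_cokernel_image _

theorem eq_image_of_divisible {B : V} (B' : Subobject B) {M : ℕ} [Epi (M • 𝟙 (B' : V))]
    (hM : M • 𝟙 (cokernel B'.arrow) = 0) : B' = imageSubobject (M • 𝟙 B) := by
  refine le_antisymm (le_image_smul B' M) ?_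
  have h0 : (M • 𝟙 B) ≫ cokernel.π B'.arrow = 0 := by
    rw [Preadditive.nsmul_comp, Category.id_comp, ← comp_smul_id, hM, comp_zero]
  exact imageSubobject_le _ (Abelian.monoLift B'.arrow _ h0) (Abelian.monoLift_comp _ _ _)

theorem epi_of_stable {B : V} (M k : ℕ)
    (h : imageSubobject (M • 𝟙 B) ≤ imageSubobject ((k * M) • 𝟙 B)) :
    Epi (k • 𝟙 ((imageSubobject (M • 𝟙 B) : Subobject B) : V)) := by
  obtain ⟨T, π, _, z, hz⟩ := image_refine h (𝟙 B)
  have hπ : π ≫ factorThruImageSubobject (M • 𝟙 B) =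
      (z ≫ factorThruImageSubobject (M • 𝟙 B)) ≫ (k • 𝟙 _) := by
    rw [comp_smul_id, ← cancel_mono (imageSubobject (M • 𝟙 B)).arrow, Preadditive.nsmul_comp,
      Category.assoc, Category.assoc, imageSubobject_arrow_comp, ← Preadditive.comp_nsmul,
      smul_smul]
    simpa using hz
  exact epi_of_epi_fac hπ.symm

theorem mittagLeffler_iff (B : V) :
    ((∀ n : ℕ, 0 < n → ∃ m : ℕ, 0 < m ∧ n ∣ m ∧ ∀ m' : ℕ, 0 < m' → m ∣ m' →
        imageSubobject ((m' / n) • 𝟙 B) = imageSubobject ((m / n) • 𝟙 B)) ↔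
      ∃ B' : Subobject B, (∀ k : ℕ, 0 < k → Epi (k • 𝟙 (B' : V))) ∧
        ∃ M : ℕ, 0 < M ∧ M • 𝟙 (cokernel B'.arrow) = 0) ∧
    (∀ B' : Subobject B, (∀ k : ℕ, 0 < k → Epi (k • 𝟙 (B' : V))) →
      (∃ M : ℕ, 0 < M ∧ M • 𝟙 (cokernel B'.arrow) = 0) →
      ∀ D : Subobject B, (∀ k : ℕ, 0 < k → Epi (k • 𝟙 (D : V))) → D ≤ B') := by
  refine ⟨⟨fun h => ?_, ?_⟩, ?_⟩
  · obtain ⟨m, hm, -, hst⟩ := h 1 Nat.one_pos
    simp only [Nat.div_one] at hst
    exact ⟨imageSubobject (m • 𝟙 B), fun k hk =>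
      epi_of_stable m k (hst (k * m) (Nat.mul_pos hk hm) (dvd_mul_left _ _)).ge,
      m, hm, smul_cokernel_eq_zero m⟩
  · rintro ⟨B', hdiv, M, hM0, hM⟩ n hn
    refine ⟨n * M, Nat.mul_pos hn hM0, dvd_mul_right _ _, fun m' hm' hd => ?_⟩
    obtain ⟨c, rfl⟩ := hd
    rw [Nat.mul_div_cancel_left _ hn, mul_assoc, Nat.mul_div_cancel_left _ hn]
    refine le_antisymm (image_smul_antitone (dvd_mul_right _ _)) ?_
    have := hdiv M hM0
    have := hdiv (M * c) (Nat.pos_of_ne_zero fun e => by simp [mul_assoc, e] at hm')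
    exact (eq_image_of_divisible B' hM).ge.trans (le_image_smul B' _)
  · rintro B' hdiv ⟨M, hM0, hM⟩ D hD
    have := hdiv M hM0
    have := hD M hM0
    exact (le_image_smul D M).trans (eq_image_of_divisible B' hM).ge

end IndCofLib
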